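/-
Over a field every square matrix is similar to its transpose, through a nondegenerate form for which it is self-adjoint.
-/
import Mathlib

set_option autoImplicit false

namespace Cfsg.Agent.SimTranspose

open Polynomial Module

universe u

variable {F : Type u} [Field F]

theorem exists_selfadjoint_form {V : Type*} [AddCommGroup V] [Module F V] [FiniteDimensional F V]
    (f : Module.End F V) :
    ∃ B : LinearMap.BilinForm F V, B.Nondegenerate ∧ ∀ v w, B (f v) w = B v (f w) := by
  classical
  obtain ⟨ι, _, p, hp, e, ⟨φ⟩⟩ := Module.equiv_directSum_of_isTorsion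
    (R := F[X]) (M := Module.AEval' f) (Module.AEval.isTorsion_of_finiteDimensional F V f)
  let h : ι → F[X] := fun i => p i ^ e i * C (p i ^ e i).leadingCoeff⁻¹
  have hne : ∀ i, p i ^ e i ≠ 0 := fun i => pow_ne_zero _ (hp i).ne_zero
  have hmon : ∀ i, (h i).Monic := fun i => monic_mul_leadingCoeff_inv (hne i)
  have hspan : ∀ i (a : F[X]), a ∈ F[X] ∙ p i ^ e i ↔ h i ∣ a := fun i a => by
    rw [Submodule.mem_span_singleton]
    constructor
    · rintro ⟨c, rfl⟩
      exact Dvd.intro (c * C (p i ^ e i).leadingCoeff) (by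
        show p i ^ e i * C (p i ^ e i).leadingCoeff⁻¹ * (c * C (p i ^ e i).leadingCoeff) = c * p i ^ e i
        rw [show p i ^ e i * C (p i ^ e i).leadingCoeff⁻¹ * (c * C (p i ^ e i).leadingCoeff) =
          c * p i ^ e i * (C (p i ^ e i).leadingCoeff⁻¹ * C (p i ^ e i).leadingCoeff) by ring,
          ← C_mul, inv_mul_cancel₀ (leadingCoeff_ne_zero.2 (hne i)), C_1, mul_one])
    · rintro ⟨c, rfl⟩
      exact ⟨C (p i ^ e i).leadingCoeff⁻¹ * c, by simp only [h, smul_eq_mul]; ring⟩
  let lam : ι → F[X] →ₗ[F] F := fun i =>
    (Polynomial.lcoeff F ((h i).natDegree - 1)).comp (Polynomial.modByMonicHom (h i))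
  have hlam : ∀ i (a b c : F[X]), h i ∣ a - b → lam i (a * c) = lam i (b * c) := by
    intro i a b c hd
    rw [← sub_eq_zero, ← map_sub]
    show ((a * c - b * c) %ₘ h i).coeff _ = 0
    rw [(modByMonic_eq_zero_iff_dvd (hmon i)).2 (by rw [← sub_mul]; exact dvd_mul_of_dvd_left hd c), coeff_zero]
  let Q : ι → Type u := fun i => F[X] ⧸ F[X] ∙ p i ^ e i
  let rep : ∀ i, Q i → F[X] := fun i x => Quotient.out x
  have hrep : ∀ i (a : F[X]), h i ∣ rep i (Submodule.Quotient.mk a) - a := fun i a =>
    (hspan i _).1 ((Submodule.Quotient.eq _).1 (Quotient.out_eq _))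
  have hrepeq : ∀ i (x : Q i), (Submodule.Quotient.mk (rep i x) : Q i) = x := fun i x => Quotient.out_eq _
  let q : ∀ i, Q i → Q i → F := fun i x y => lam i (rep i x * rep i y)
  have hq : ∀ i (a b : F[X]), q i (Submodule.Quotient.mk a) (Submodule.Quotient.mk b) = lam i (a * b) := by
    intro i a b
    show lam i (_ * _) = _
    rw [hlam i _ a _ (hrep i a), mul_comm a, hlam i _ b _ (hrep i b), mul_comm b a]
  have qadd : ∀ i x y z, q i (x + y) z = q i x z + q i y z := by
    intro i x y z
    rw [← hrepeq i x, ← hrepeq i y, ← hrepeq i z, ← Submodule.Quotient.mk_add, hq, hq, hq, add_mul, map_add]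
  have qsmul : ∀ i (P : F[X]) x y, q i (P • x) y = lam i (P * (rep i x * rep i y)) := by
    intro i P x y
    conv_lhs => rw [← hrepeq i x, ← hrepeq i y, ← Submodule.Quotient.mk_smul, hq]
    rw [smul_eq_mul, mul_assoc]
  have qcomm : ∀ i x y, q i x y = q i y x := fun i x y => by
    show lam i (_ * _) = lam i (_ * _)
    rw [mul_comm]
  let co : V → ∀ i, Q i := fun v i => φ (Module.AEval'.of f v) i
  have co_add : ∀ v w i, co (v + w) i = co v i + co w i := fun v w i => by simp [co, Q]
  have co_smul : ∀ (c : F) v i, co (c • v) i = C c • co v i := fun c v i => by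
    show φ (Module.AEval'.of f (c • v)) i = C c • φ (Module.AEval'.of f v) i
    rw [map_smul, ← DirectSum.smul_apply, ← map_smul φ]
    congr 2
    exact (algebraMap_smul F[X] c (Module.AEval'.of f v)).symm
  have co_X : ∀ v i, co (f v) i = (X : F[X]) • co v i := fun v i => by
    show φ (Module.AEval'.of f (f v)) i = (X : F[X]) • φ (Module.AEval'.of f v) i
    rw [← DirectSum.smul_apply, ← map_smul φ, Module.AEval'.X_smul_of]
  let B : LinearMap.BilinForm F V := LinearMap.mk₂ F (fun v w => ∑ i, q i (co v i) (co w i))
    (fun u v w => by simp only [co_add, qadd, Finset.sum_add_distrib])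
    (fun c v w => by
      simp only [co_smul, qsmul, smul_eq_mul, Finset.mul_sum]
      refine Finset.sum_congr rfl fun i _ => ?_
      rw [← Polynomial.smul_eq_C_mul, map_smul, smul_eq_mul])
    (fun u v w => by
      simp only [co_add, qcomm _ (co u _), qadd, Finset.sum_add_distrib])
    (fun c v w => by
      simp only [co_smul, qcomm _ (co v _), qsmul, smul_eq_mul, Finset.mul_sum]
      refine Finset.sum_congr rfl fun i _ => ?_
      rw [← Polynomial.smul_eq_C_mul, map_smul, smul_eq_mul])
  refine ⟨B, ?_, fun v w => ?_⟩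
  · have hsym : ∀ v w, B v w = B w v := fun v w => Finset.sum_congr rfl fun i _ => qcomm i _ _
    have hleft : ∀ v, (∀ w, B v w = 0) → v = 0 := by
      intro v hv
      apply (Module.AEval'.of f).injective
      apply φ.injective
      rw [map_zero, map_zero]
      refine DFinsupp.ext fun i => ?_
      by_contra hx
      set r := rep i (co v i) %ₘ h i with hr
      have hr0 : r ≠ 0 := by
        intro h0
        refine hx ?_
        show co v i = 0
        rw [← hrepeq i (co v i), Submodule.Quotient.mk_eq_zero, hspan]
        exact (modByMonic_eq_zero_iff_dvd (hmon i)).1 h0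
      have hdeg : r.natDegree < (h i).natDegree :=
        natDegree_lt_natDegree hr0 (degree_modByMonic_lt _ (hmon i))
      obtain ⟨z, hz⟩ := φ.surjective
        (DirectSum.of Q i (Submodule.Quotient.mk (X ^ ((h i).natDegree - 1 - r.natDegree))))
      obtain ⟨w, rfl⟩ := (Module.AEval'.of f).surjective z
      have hw := hz
      have h0 := hv w
      change ∑ j, q j (co v j) (co w j) = 0 at h0
      rw [Finset.sum_eq_single i] at h0
      · rw [show co w i = Submodule.Quotient.mk (X ^ ((h i).natDegree - 1 - r.natDegree)) by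
            show φ (Module.AEval'.of f w) i = _
            rw [hw]; exact DirectSum.of_eq_same _ _,
          ← hrepeq i (co v i), hq, hlam i _ r] at h0
        · have h1 : ((r * X ^ ((h i).natDegree - 1 - r.natDegree)) %ₘ h i).coeff ((h i).natDegree - 1) = 0 := h0
          rw [(modByMonic_eq_self_iff (hmon i)).2] at h1
          · rw [coeff_mul_X_pow', if_pos (Nat.sub_le _ _),
              show (h i).natDegree - 1 - ((h i).natDegree - 1 - r.natDegree) = r.natDegree by omega] at h1
            exact leadingCoeff_ne_zero.2 hr0 h1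
          · refine degree_lt_degree ?_
            rw [natDegree_mul_X_pow _ hr0]
            omega
        · exact ⟨rep i (co v i) /ₘ h i, by rw [hr]; linear_combination -(modByMonic_add_div (rep i (co v i)) (h i))⟩
      · intro j _ hj
        have : co w j = 0 := by
          show φ (Module.AEval'.of f w) j = 0
          rw [hw]
          exact DirectSum.of_eq_of_ne _ _ _ hj
        rw [this, qcomm, ← Submodule.Quotient.mk_zero, ← hrepeq j (co v j), hq, zero_mul, map_zero]
      · simp
    exact ⟨fun v hv => hleft v hv, fun v hv => hleft v fun w => (hsym v w).trans (hv w)⟩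
  · refine Finset.sum_congr rfl fun i _ => ?_
    rw [co_X, co_X, qcomm i (co v i) (X • _), qsmul, qsmul, mul_comm (rep i (co w i))]

/-- Every square matrix is similar to its transpose. -/
theorem isConj_transpose {ι : Type*} [Fintype ι] [DecidableEq ι] (A : Matrix ι ι F) :
    IsConj A A.transpose := by
  obtain ⟨B, hB, hadj⟩ := exists_selfadjoint_form (Matrix.toLin' A)
  let P : Matrix ι ι F := LinearMap.BilinForm.toMatrix' B
  have hP : IsUnit P := by
    rw [Matrix.isUnit_iff_isUnit_det, isUnit_iff_ne_zero]
    exact (LinearMap.BilinForm.nondegenerate_iff_det_ne_zero (Pi.basisFun F ι)).1 hB |>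
      fun h => by simpa [P, LinearMap.BilinForm.toMatrix_basisFun] using h
  obtain ⟨u, hu⟩ := hP
  refine ⟨u, ?_⟩
  show (u : Matrix ι ι F) * A = A.transpose * u
  rw [hu]
  have h : LinearMap.BilinForm.toMatrix' (B.compRight (Matrix.toLin' A)) =
      LinearMap.BilinForm.toMatrix' (B.compLeft (Matrix.toLin' A)) := by
    congr 1
    exact LinearMap.ext fun v => LinearMap.ext fun w => (hadj v w).symm
  rw [LinearMap.BilinForm.toMatrix'_compRight, LinearMap.BilinForm.toMatrix'_compLeft,
    LinearMap.toMatrix'_toLin'] at h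
  exact h

end Cfsg.Agent.SimTranspose
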